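import Cfsg.Agent.Lib.Chev.Perfect

/-!
Certificates for the closure of root subgroups under monomial elements, one element of the shape
`x_α(1) n_w`, and commutators.
-/

set_option autoImplicit false

namespace Cfsg.Agent.KnownA.TwoGen

open Cfsg.Lie Cfsg.Agent.Lib.Chev

/-- One closure step. -/
inductive GStep
  | rot (i r : ℕ)
  | turn (r : ℕ)
  | twist (r m : ℕ)
  | comm (a b m : ℕ)

/-- Image of a root under the product of a list of fundamental reflections. -/
def wImg (T : Tables) (l : List ℕ) (r : ℕ) : ℕ := l.foldr T.w r

/-- The data of a closure: monomial words and the twisted element. -/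
structure Gens where
  words : List (List ℕ)
  twisted : Option (ℕ × List ℕ)

/-- Take an unknown term with unit coefficient among known ones. -/
def pick (known : List ℕ) (ts : List (ℕ × ℤ × ℕ × ℕ)) (m : ℕ) : Option ℕ :=
  match ts.drop m with
  | (k, C, _, j) :: rest =>
    if decide (j = 1) && decide (C * C = 1) && allKnown known (ts.take m) && allKnown known rest then some k
    else none
  | [] => none

/-- Run one step. -/
def gstep (D : ChevalleyDatum) (T : Tables) (g : Gens) (known : List ℕ) : GStep → Option ℕ
  | .rot i r =>
    if h : i < g.words.length then
      (if decide (r < D.nroots) && known.contains r then some (wImg T (g.words[i]) r) else none)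
    else none
  | .turn r =>
    match g.twisted with
    | some (α, l) =>
      if decide (r < D.nroots) && known.contains r && decide (wImg T l r ≠ α) &&
        decide (wImg T l r ≠ ng D α) && allKnown known (T.terms α (wImg T l r)) then some (wImg T l r)
      else none
    | none => none
  | .twist r m =>
    match g.twisted with
    | some (α, l) =>
      if decide (r < D.nroots) && known.contains r && decide (wImg T l r ≠ α) &&
        decide (wImg T l r ≠ ng D α) && known.contains (wImg T l r) then
        pick known (T.terms α (wImg T l r)) m
      else none
    | none => none
  | .comm a b m =>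
    if decide (a < D.nroots) && decide (b < D.nroots) && decide (b ≠ a) && decide (b ≠ ng D a) &&
      known.contains a && known.contains b then pick known (T.terms a b) m else none

/-- Run a certificate. -/
def grun (D : ChevalleyDatum) (T : Tables) (g : Gens) : List GStep → List ℕ → Option (List ℕ)
  | [], known => some known
  | s :: ss, known =>
    match gstep D T g known s with
    | some k => grun D T g ss (k :: known)
    | none => none

/-- The certificate reaches every fundamental root and its negative. -/
def chkClose (D : ChevalleyDatum) (T : Tables) (g : Gens) (seeds : List ℕ) (ss : List GStep) : Bool :=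
  match grun D T g ss seeds with
  | some known => allLt D.rank fun i => known.contains (sim D i) && known.contains (ng D (sim D i))
  | none => false

/-- The pairing, computably. -/
def pr (D : ChevalleyDatum) (T : Tables) (r s : ℕ) : ℤ := isum D.rank fun i => T.c r i * T.A i s

/-- Suitability of the seeds and the torus element. -/
def chkTor (D : ChevalleyDatum) (T : Tables) (l : List ℕ) (r0 α β γ δ j : ℕ) : Bool :=
  l.all (fun i => decide (i < D.rank)) && decide (r0 < D.nroots) && decide (α < D.nroots) &&
    decide (β < D.nroots) && decide (γ < D.nroots) && decide (δ < D.nroots) &&
    (wImg T l β == α) && ((wImg T l)^[j] δ == γ) &&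
    decide ((pr D T r0 α).natAbs = 1) && decide ((pr D T r0 β).natAbs = 1) &&
    (decide ((pr D T r0 δ).natAbs = 1) || decide ((pr D T r0 δ).natAbs = 2)) &&
    decide (pr D T r0 γ = 0)

/-- Suitability of the seed and the twisted element. -/
def chkTw (D : ChevalleyDatum) (l : List ℕ) (α γ : ℕ) : Bool :=
  l.all (fun i => decide (i < D.rank)) && decide (α < D.nroots) && decide (γ < D.nroots)

end Cfsg.Agent.KnownA.TwoGen
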