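import Cfsg.Agent.Lib.KnownA.TwoGen.Check
import Cfsg.Agent.Lib.Chev.All

/-! The closure certificates of the seven types. -/

set_option autoImplicit false
set_option maxRecDepth 100000

namespace Cfsg.Agent.KnownA.TwoGen

open Cfsg.Lie Cfsg.Agent.Lib.Chev

theorem torG2 : (chkTor chevG2 tabG2 [0, 1] 5 0 1 2 4 1 &&
    chkClose chevG2 tabG2 ⟨[[0, 1]], none⟩ [0, 2]
      [.rot 0 0, .rot 0 5, .rot 0 10, .rot 0 11, .rot 0 6, .rot 0 2, .rot 0 3, .rot 0 7, .rot 0 9, .rot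
      0 8]) = true := by
  decide +kernel

theorem torD4 : (chkTor chevD4 tabD4 [0, 1, 2, 3] 0 1 9 10 8 1 &&
    chkClose chevD4 tabD4 ⟨[[0, 1, 2, 3]], none⟩ [1, 10]
      [.rot 0 1, .rot 0 18, .rot 0 14, .rot 0 22, .rot 0 5, .rot 0 10, .rot 0 21, .rot 0 15, .rot 0 13,
      .rot 0 2, .comm 8 2 0, .rot 0 0, .rot 0 6, .rot 0 19, .rot 0 23, .rot 0 17, .comm 8 5 0,
      .rot 0 3, .rot 0 7, .rot 0 11, .rot 0 20, .rot 0 16]) = true := by
  decide +kernel

theorem torF4 : (chkTor chevF4 tabF4 [0, 1, 2, 3] 15 0 1 3 13 2 &&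
    chkClose chevF4 tabF4 ⟨[[0, 1, 2, 3]], none⟩ [0, 3]
      [.rot 0 0, .rot 0 15, .rot 0 21, .rot 0 41, .rot 0 45, .rot 0 46, .rot 0 47, .rot 0 32, .rot 0 26,
      .rot 0 6, .rot 0 2, .rot 0 3, .rot 0 7, .rot 0 8, .rot 0 18, .rot 0 34, .rot 0 37, .rot 0
      44, .rot 0 40, .rot 0 39, .rot 0 29, .rot 0 13, .comm 10 44 0, .rot 0 36, .rot 0 14, .rot 0
      20, .rot 0 12, .rot 0 9, .rot 0 19, .rot 0 11, .rot 0 33, .rot 0 27, .rot 0 35, .rot 0 38,
      .comm 28 1 1, .rot 0 5, .rot 0 17, .rot 0 4, .rot 0 16, .rot 0 22, .rot 0 23, .rot 0 42,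
      .rot 0 30, .rot 0 43, .rot 0 31, .rot 0 25]) = true := by
  decide +kernel

theorem torE6 : (chkTor chevE6 tabE6 [0, 1, 2, 3, 4, 5] 7 0 4 2 45 4 &&
    chkClose chevE6 tabE6 ⟨[[0, 1, 2, 3, 4, 5]], none⟩ [0, 2]
      [.rot 0 0, .rot 0 1, .rot 0 16, .rot 0 30, .rot 0 61, .rot 0 67, .rot 0 71, .rot 0 70, .rot 0 55,
      .rot 0 41, .rot 0 10, .rot 0 2, .rot 0 17, .rot 0 31, .rot 0 33, .rot 0 62, .rot 0 68, .rot
      0 53, .rot 0 66, .rot 0 45, .rot 0 14, .rot 0 21, .comm 7 66 0, .rot 0 38, .rot 0 9, .rot 0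
      3, .rot 0 18, .rot 0 5, .rot 0 26, .rot 0 57, .rot 0 50, .rot 0 64, .rot 0 69, .rot 0 54,
      .comm 40 57 0, .rot 0 59, .rot 0 52, .rot 0 39, .rot 0 37, .rot 0 36, .rot 0 8, .rot 0 28,
      .rot 0 23, .rot 0 11, .rot 0 56, .rot 0 42, .comm 47 23 0, .rot 0 34, .rot 0 35, .rot 0 63,
      .rot 0 43, .rot 0 48, .rot 0 60, .rot 0 15, .rot 0 29, .rot 0 24, .rot 0 12, .rot 0 19,
      .comm 32 47 0, .rot 0 46, .rot 0 58, .rot 0 51, .rot 0 65, .rot 0 44, .rot 0 49, .rot 0 25,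
      .rot 0 13, .rot 0 20, .rot 0 6, .rot 0 27]) = true := by
  decide +kernel

theorem torE7 : (chkTor chevE7 tabE7 [0, 1, 2, 3, 4, 5, 6] 10 0 6 3 15 3 &&
    chkClose chevE7 tabE7 ⟨[[0, 1, 2, 3, 4, 5, 6]], none⟩ [0, 3]
      [.rot 0 0, .rot 0 1, .rot 0 2, .rot 0 7, .rot 0 33, .rot 0 53, .rot 0 99, .rot 0 109, .rot 0 119,
      .rot 0 125, .rot 0 124, .rot 0 123, .rot 0 118, .rot 0 92, .rot 0 72, .rot 0 26, .rot 0 16,
      .rot 0 3, .rot 0 8, .rot 0 34, .rot 0 54, .rot 0 57, .rot 0 100, .rot 0 110, .rot 0 120,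
      .rot 0 115, .rot 0 122, .rot 0 117, .rot 0 91, .rot 0 71, .rot 0 68, .rot 0 25, .rot 0 15,
      .rot 0 5, .comm 10 117 0, .rot 0 65, .rot 0 24, .rot 0 14, .rot 0 38, .rot 0 19, .rot 0 11,
      .rot 0 36, .rot 0 55, .rot 0 58, .rot 0 60, .rot 0 101, .rot 0 111, .rot 0 87, .rot 0 106,
      .rot 0 114, .rot 0 89, .rot 0 70, .comm 67 87 0, .rot 0 90, .rot 0 108, .rot 0 77, .rot 0
      31, .rot 0 42, .rot 0 22, .rot 0 13, .rot 0 4, .rot 0 9, .rot 0 35, .rot 0 17, .rot 0 48,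
      .rot 0 94, .rot 0 83, .rot 0 103, .rot 0 112, .rot 0 121, .comm 116 36 0, .rot 0 96, .rot 0
      85, .rot 0 105, .rot 0 75, .rot 0 81, .rot 0 98, .rot 0 32, .rot 0 52, .rot 0 46, .rot 0 29,
      .rot 0 40, .rot 0 20, .rot 0 50, .rot 0 44, .rot 0 27, .rot 0 93, .rot 0 73, .comm 79 5 0,
      .rot 0 12, .rot 0 37, .rot 0 18, .rot 0 49, .rot 0 43, .rot 0 78, .rot 0 95, .rot 0 84, .rot
      0 104, .rot 0 113, .rot 0 88, .rot 0 107, .rot 0 76, .rot 0 82, .rot 0 47, .rot 0 30, .rot 0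
      41, .comm 21 79 0, .rot 0 28, .rot 0 39, .rot 0 56, .rot 0 59, .rot 0 61, .rot 0 62, .rot 0
      102, .rot 0 74, .rot 0 80, .rot 0 97, .rot 0 86, .rot 0 69, .rot 0 66, .rot 0 64, .rot 0 63,
      .rot 0 23, .rot 0 51]) = true := by
  decide +kernel

theorem torE8 : (chkTor chevE8 tabE8 [0, 1, 2, 3, 4, 5, 6, 7] 11 0 1 2 3 1 &&
    chkClose chevE8 tabE8 ⟨[[0, 1, 2, 3, 4, 5, 6, 7]], none⟩ [0, 2]
      [.rot 0 0, .rot 0 15, .rot 0 21, .rot 0 36, .rot 0 78, .rot 0 105, .rot 0 169, .rot 0 184, .rot 0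
      204, .rot 0 226, .rot 0 234, .rot 0 235, .rot 0 236, .rot 0 237, .rot 0 238, .rot 0 239,
      .rot 0 224, .rot 0 218, .rot 0 203, .rot 0 161, .rot 0 134, .rot 0 70, .rot 0 55, .rot 0 35,
      .rot 0 13, .rot 0 5, .rot 0 4, .rot 0 2, .comm 1 203 0, .rot 0 34, .rot 0 12, .rot 0 20,
      .rot 0 6, .rot 0 7, .rot 0 14, .rot 0 8, .rot 0 16, .rot 0 22, .rot 0 37, .rot 0 79, .rot 0
      106, .rot 0 110, .rot 0 170, .rot 0 185, .rot 0 205, .rot 0 227, .rot 0 219, .rot 0 233,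
      .rot 0 232, .rot 0 225, .rot 0 231, .rot 0 223, .rot 0 217, .rot 0 202, .rot 0 160, .rot 0
      133, .rot 0 129, .rot 0 69, .comm 54 219 0, .rot 0 157, .rot 0 182, .rot 0 139, .rot 0 146,
      .rot 0 98, .rot 0 75, .rot 0 91, .rot 0 64, .rot 0 50, .rot 0 31, .rot 0 44, .rot 0 28, .rot
      0 42, .rot 0 27, .rot 0 41, .rot 0 82, .rot 0 57, .rot 0 100, .rot 0 93, .rot 0 141, .rot 0
      164, .rot 0 148, .rot 0 175, .rot 0 189, .rot 0 208, .rot 0 195, .rot 0 211, .rot 0 197,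
      .rot 0 212, .comm 198 148 0, .rot 0 220, .rot 0 214, .rot 0 230, .rot 0 222, .rot 0 216,
      .rot 0 201, .rot 0 159, .rot 0 183, .rot 0 140, .rot 0 76, .rot 0 92, .rot 0 65, .rot 0 51,
      .rot 0 32, .rot 0 11, .rot 0 19, .rot 0 25, .rot 0 9, .rot 0 17, .rot 0 23, .rot 0 38, .rot
      0 80, .rot 0 56, .rot 0 99, .rot 0 163, .rot 0 147, .rot 0 174, .rot 0 188, .rot 0 207,
      .comm 228 9 0, .rot 0 112, .rot 0 115, .rot 0 117, .rot 0 172, .rot 0 187, .rot 0 152, .rot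
      0 178, .rot 0 191, .rot 0 209, .rot 0 196, .rot 0 156, .rot 0 181, .rot 0 193, .rot 0 155,
      .rot 0 131, .rot 0 127, .rot 0 124, .rot 0 122, .rot 0 67, .rot 0 52, .rot 0 87, .rot 0 61,
      .rot 0 48, .rot 0 30, .rot 0 43, .rot 0 83, .rot 0 58, .rot 0 46, .rot 0 84, .comm 108 48 0,
      .rot 0 39, .rot 0 26, .rot 0 40, .rot 0 81, .rot 0 107, .rot 0 111, .rot 0 114, .rot 0 171,
      .rot 0 186, .rot 0 206, .rot 0 194, .rot 0 210, .rot 0 229, .rot 0 221, .rot 0 215, .rot 0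
      200, .rot 0 213, .rot 0 199, .rot 0 158, .rot 0 132, .rot 0 128, .rot 0 125, .rot 0 68, .rot
      0 53, .rot 0 33, .rot 0 45, .rot 0 29, .rot 0 10, .rot 0 18, .comm 24 156 0, .rot 0 62, .rot
      0 102, .rot 0 95, .rot 0 72, .rot 0 88, .rot 0 109, .rot 0 113, .rot 0 116, .rot 0 118, .rot
      0 119, .rot 0 173, .rot 0 136, .rot 0 143, .rot 0 166, .rot 0 150, .rot 0 177, .rot 0 137,
      .rot 0 144, .rot 0 167, .rot 0 151, .rot 0 130, .rot 0 126, .rot 0 123, .rot 0 121, .rot 0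
      120, .rot 0 66, .rot 0 103, .rot 0 96, .rot 0 73, .comm 89 121 0, .rot 0 90, .rot 0 63, .rot
      0 49, .rot 0 86, .rot 0 60, .rot 0 47, .rot 0 85, .rot 0 59, .rot 0 101, .rot 0 94, .rot 0
      71, .rot 0 162, .rot 0 135, .rot 0 142, .rot 0 165, .rot 0 149, .rot 0 176, .rot 0 190, .rot
      0 153, .rot 0 179, .rot 0 192, .rot 0 154, .rot 0 180, .rot 0 138, .rot 0 145, .rot 0 168,
      .rot 0 77, .rot 0 104, .rot 0 97]) = true := by
  decide +kernel

theorem torB2 : (chkTor chevB2 tabB2 [0, 1] 3 1 2 0 4 1 &&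
    chkClose chevB2 tabB2 ⟨[[0, 1]], none⟩ [1, 0]
      [.rot 0 1, .rot 0 5, .rot 0 6, .rot 0 0, .rot 0 3, .rot 0 7]) = true := by
  decide +kernel

theorem twD4 : (chkTw chevD4 [3, 2, 1, 0] 12 1 &&
    chkClose chevD4 tabD4 ⟨[], some (12, [3, 2, 1, 0])⟩ [1]
      [.turn 1, .turn 9, .turn 5, .comm 22 5 0, .turn 17, .comm 23 1 0, .turn 14, .twist 18 0, .turn 2,
      .turn 13, .turn 15, .turn 21, .turn 10, .comm 8 10 0, .turn 6, .turn 0, .comm 6 23 0, .twist
      19 0, .turn 7, .twist 23 0, .comm 20 4 0, .turn 12, .comm 16 6 0]) = true := by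
  decide +kernel

theorem twF4 : (chkTw chevF4 [0, 1, 2, 3] 38 0 &&
    chkClose chevF4 tabF4 ⟨[], some (38, [0, 1, 2, 3])⟩ [0]
      [.turn 0, .turn 15, .turn 21, .turn 41, .turn 45, .turn 46, .turn 47, .turn 32, .turn 26, .comm 6
      45 0, .comm 31 15 0, .comm 22 26 0, .comm 24 41 0, .turn 42, .turn 30, .comm 43 0 0, .comm
      16 30 0, .twist 22 0, .turn 37, .turn 44, .turn 40, .turn 39, .turn 29, .turn 13, .turn 31,
      .turn 6, .turn 2, .twist 1 0, .comm 8 25 0, .turn 9, .comm 19 9 0, .comm 7 39 0, .turn 20,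
      .turn 10, .comm 3 40 0, .turn 24, .turn 5, .turn 17, .twist 4 0, .turn 33, .turn 27, .turn
      19, .twist 14 0, .comm 36 27 0, .turn 38, .comm 28 15 0, .turn 18]) = true := by
  decide +kernel

theorem twE6 : (chkTw chevE6 [0, 1, 2, 3, 4, 5] 47 0 &&
    chkClose chevE6 tabE6 ⟨[], some (47, [0, 1, 2, 3, 4, 5])⟩ [0]
      [.turn 0, .turn 1, .turn 16, .turn 30, .turn 61, .turn 67, .turn 71, .turn 70, .turn 55, .comm 41
      61 0, .comm 65 1 0, .comm 27 55 0, .comm 49 30 0, .turn 46, .turn 58, .comm 51 0 0, .comm 6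
      58 0, .twist 27 0, .turn 33, .turn 62, .turn 68, .turn 53, .turn 65, .comm 66 33 0, .turn
      64, .turn 69, .turn 54, .turn 40, .turn 38, .turn 9, .turn 3, .turn 18, .turn 5, .turn 26,
      .turn 57, .turn 66, .turn 45, .turn 41, .turn 10, .twist 4 0, .turn 2, .turn 17, .comm 31 10
      0, .comm 7 53 0, .turn 15, .turn 14, .twist 21 0, .turn 12, .turn 19, .turn 32, .turn 34,
      .turn 35, .turn 63, .turn 43, .turn 48, .comm 60 35 0, .turn 59, .turn 52, .turn 39, .turn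
      37, .turn 36, .turn 8, .turn 28, .turn 23, .turn 11, .turn 56, .turn 49, .turn 25, .turn 13,
      .comm 25 32 0, .comm 11 65 0]) = true := by
  decide +kernel

theorem twE7 : (chkTw chevE7 [0, 1, 2, 3, 4, 5, 6] 95 0 &&
    chkClose chevE7 tabE7 ⟨[], some (95, [0, 1, 2, 3, 4, 5, 6])⟩ [0]
      [.turn 0, .turn 1, .turn 2, .turn 7, .turn 33, .turn 53, .turn 99, .turn 109, .turn 119, .turn
      125, .turn 124, .turn 123, .comm 118 53 0, .turn 112, .turn 121, .comm 116 7 0, .turn 58,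
      .turn 60, .turn 101, .turn 111, .turn 87, .turn 106, .turn 114, .turn 89, .comm 70 99 0,
      .comm 103 0 0, .turn 11, .turn 36, .comm 55 87 0, .comm 36 111 0, .comm 94 70 0, .comm 96 0
      0, .comm 4 83 0, .turn 17, .comm 48 89 0, .comm 17 114 0, .comm 73 70 0, .comm 4 89 0, .comm
      24 94 0, .comm 24 55 0, .comm 19 118 0, .comm 77 36 0, .comm 77 1 0, .twist 6 0, .turn 3,
      .turn 8, .turn 34, .turn 54, .turn 57, .turn 100, .turn 110, .turn 120, .turn 115, .turn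
      122, .turn 117, .turn 91, .turn 44, .turn 27, .turn 4, .turn 9, .turn 96, .turn 85, .turn
      116, .turn 90, .turn 118, .turn 92, .comm 72 9 0, .comm 16 120 0, .turn 82, .turn 72, .twist
      26 0, .turn 41, .turn 21, .turn 12, .turn 37, .turn 18, .turn 49, .turn 43, .comm 78 41 0,
      .comm 50 21 0, .comm 10 90 0, .comm 30 43 0, .comm 20 41 0, .comm 5 122 0, .turn 67, .twist
      70 0, .turn 97, .turn 86, .turn 69, .turn 66, .turn 64, .turn 63, .turn 23, .turn 51, .turn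
      45, .turn 28, .turn 39, .turn 56, .turn 59, .turn 61, .turn 62, .turn 102, .turn 74, .turn
      46, .turn 29, .turn 77, .turn 31, .turn 42, .turn 22, .turn 24, .turn 14, .comm 38 91 0,
      .turn 68, .turn 25, .twist 71 0, .turn 98, .turn 32, .comm 52 85 0, .twist 75 0, .turn 104,
      .turn 113, .turn 88, .turn 107, .comm 113 27 0, .comm 104 44 0]) = true := by
  decide +kernel

theorem twE8 : (chkTw chevE8 [0, 1, 2, 3, 4, 5, 6, 7] 22 0 &&
    chkClose chevE8 tabE8 ⟨[], some (22, [0, 1, 2, 3, 4, 5, 6, 7])⟩ [0]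
      [.turn 0, .turn 15, .turn 21, .turn 36, .turn 78, .turn 105, .turn 169, .turn 184, .turn 204,
      .turn 226, .turn 234, .turn 235, .comm 236 15 0, .turn 170, .turn 185, .turn 205, .turn 227,
      .turn 219, .turn 233, .comm 232 15 0, .turn 163, .turn 147, .turn 174, .turn 188, .turn 207,
      .turn 228, .turn 236, .comm 237 15 0, .turn 171, .turn 186, .turn 206, .turn 194, .turn 210,
      .turn 229, .comm 221 15 0, .turn 107, .turn 111, .turn 220, .turn 214, .comm 230 0 0, .turn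
      84, .turn 108, .turn 112, .turn 115, .turn 117, .turn 172, .turn 187, .turn 152, .turn 178,
      .turn 191, .turn 209, .turn 196, .turn 156, .turn 181, .turn 221, .turn 215, .comm 200 209
      0, .twist 237 0, .comm 238 0 0, .turn 119, .turn 173, .turn 136, .turn 143, .turn 166, .comm
      150 215 0, .twist 232 0, .turn 148, .comm 225 15 0, .turn 141, .comm 225 0 0, .turn 71,
      .turn 162, .turn 135, .turn 142, .turn 165, .turn 225, .turn 231, .turn 230, .comm 222 0 0,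
      .turn 59, .turn 101, .comm 94 101 0, .turn 80, .turn 56, .turn 150, .turn 177, .comm 137 101
      0, .turn 116, .turn 222, .turn 216, .comm 201 101 0, .turn 180, .comm 138 216 0, .comm 224
      173 0, .twist 238 0, .turn 190, .turn 153, .turn 179, .comm 192 142 0, .turn 208, .turn 195,
      .twist 189 0, .turn 106, .comm 211 0 0, .turn 40, .turn 137, .turn 144, .turn 167, .comm 151
      179 0, .turn 212, .turn 198, .comm 157 21 0, .turn 57, .turn 100, .turn 211, .turn 192,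
      .comm 154 162 0, .twist 149 0, .comm 154 15 0, .comm 38 198 0, .comm 113 40 0, .comm 157 15
      0, .turn 41, .turn 138, .turn 145, .turn 168, .comm 77 168 0, .comm 140 145 0, .comm 161 82
      0, .turn 125, .turn 68, .turn 53, .turn 33, .turn 45, .turn 29, .turn 10, .turn 18, .turn
      24, .turn 39, .turn 140, .turn 76, .turn 92, .turn 151, .turn 130, .turn 224, .comm 218 26
      0, .turn 131, .turn 127, .turn 124, .turn 122, .turn 67, .turn 52, .turn 87, .turn 61, .turn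
      48, .turn 30, .turn 43, .turn 83, .turn 58, .turn 193, .comm 155 43 0, .turn 74, .turn 90,
      .turn 63, .turn 49, .turn 86, .turn 60, .turn 47, .turn 157, .turn 182, .comm 139 182 0,
      .twist 203 0, .twist 218 0, .twist 97 0, .turn 8, .comm 16 97 0, .comm 14 74 0, .turn 3,
      .turn 2, .turn 64, .turn 50, .turn 31, .turn 44, .turn 28, .turn 42, .turn 139, .turn 146,
      .turn 98, .turn 75, .turn 65, .turn 51, .turn 32, .turn 11, .turn 19, .turn 25, .turn 9,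
      .turn 17, .turn 126, .turn 123, .turn 121, .turn 120, .turn 66, .turn 103, .turn 96, .turn
      73, .turn 89, .turn 62, .turn 102, .turn 95, .turn 72, .turn 88, .turn 161, .turn 134, .turn
      77, .turn 201, .turn 159, .turn 200, .turn 213, .turn 199, .turn 158, .turn 132, .comm 128
      120 0, .comm 129 9 0, .turn 13, .turn 5, .turn 70, .turn 55, .comm 35 100 0, .turn 20, .turn
      6, .turn 129, .turn 69, .turn 54, .turn 34, .comm 12 231 0, .comm 133 208 0, .turn 217,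
      .turn 202, .comm 6 170 0]) = true := by
  decide +kernel

end Cfsg.Agent.KnownA.TwoGen
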