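import Cfsg.Agent.Lib.KnownA.TwoGen.Check
import Cfsg.Agent.Lib.Chev.Char
import Mathlib

/-!
Two generators for the Chevalley groups over finite fields.
-/

set_option autoImplicit false

namespace Cfsg.Agent.KnownA.TwoGen

open Cfsg.Lie Cfsg.Agent.Lib.Chev

variable {D : ChevalleyDatum} {T : Tables} {F : Type*} [Field F]

/-- The product of the fundamental `n`'s of a list. -/
def nl (G : Good D T) (F : Type*) [Field F] (l : List ℕ) : GL D.Idx F := (l.map (G.ni F)).prod

/-- The root subgroup lies in `K`. -/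
def Has (G : Good D T) (K : Subgroup (GL D.Idx F)) (r : ℕ) : Prop :=
  r < D.nroots ∧ ∀ t : F, G.X F r t ∈ K

theorem nl_conj (G : Good D T) {l : List ℕ} (hl : ∀ i ∈ l, i < D.rank) {r : ℕ} (hr : r < D.nroots) :
    wImg T l r < D.nroots ∧ ∃ e : F, e ^ 2 = 1 ∧
      ∀ t : F, nl G F l * G.X F r t * (nl G F l)⁻¹ = G.X F (wImg T l r) (e * t) := by
  induction l with
  | nil => exact ⟨hr, 1, one_pow _, fun t => by simp [nl, wImg]⟩
  | cons i l ih =>
    obtain ⟨hlt, e, he, hconj⟩ := ih fun x hx => hl x (List.mem_cons_of_mem _ hx)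
    have hi := hl i List.mem_cons_self
    refine ⟨G.w_lt hi hlt, (T.eta i (wImg T l r) : F) * e, by rw [mul_pow, G.eta_sq, he, one_mul],
      fun t => ?_⟩
    have h1 : nl G F (i :: l) * G.X F r t * (nl G F (i :: l))⁻¹ =
        G.ni F i * (nl G F l * G.X F r t * (nl G F l)⁻¹) * (G.ni F i)⁻¹ := by
      simp only [nl, List.map_cons, List.prod_cons, _root_.mul_inv_rev, mul_assoc]
    rw [h1, hconj, G.ni_conj_X hi hlt, mul_assoc]
    rfl

theorem nl_pow_conj (G : Good D T) {l : List ℕ} (hl : ∀ i ∈ l, i < D.rank) {r : ℕ} (hr : r < D.nroots) :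
    ∀ j : ℕ, (wImg T l)^[j] r < D.nroots ∧ ∃ e : F, e ^ 2 = 1 ∧
      ∀ t : F, nl G F l ^ j * G.X F r t * (nl G F l ^ j)⁻¹ = G.X F ((wImg T l)^[j] r) (e * t) := by
  intro j
  induction j with
  | zero => exact ⟨hr, 1, one_pow _, fun t => by simp⟩
  | succ j ih =>
    obtain ⟨hlt, e, he, hc⟩ := ih
    obtain ⟨hlt', e', he', hc'⟩ := nl_conj (F := F) G hl hlt
    rw [Function.iterate_succ_apply']
    refine ⟨hlt', e' * e, by rw [mul_pow, he', he, one_mul], fun t => ?_⟩
    rw [mul_assoc e', ← hc', ← hc, pow_succ']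
    simp only [_root_.mul_inv_rev, mul_assoc]

theorem foldl_wImg (G : Good D T) {l : List ℕ} (hl : ∀ i ∈ l, i < D.rank) {β : ℕ} (hβ : β < D.nroots) :
    l.foldl (fun r i => T.w i r) (wImg T l β) = β := by
  induction l with
  | nil => rfl
  | cons i l ih =>
    have hl' : ∀ x ∈ l, x < D.rank := fun x hx => hl x (List.mem_cons_of_mem _ hx)
    have hlt := (nl_conj (F := ℚ) G hl' hβ).1
    show l.foldl _ (T.w i (T.w i (wImg T l β))) = β
    rw [G.w_w (hl i List.mem_cons_self) hlt]
    exact ih hl'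

theorem nl_dmat (G : Good D T) {l : List ℕ} (hl : ∀ i ∈ l, i < D.rank) (χ : ℕ → F) :
    (nl G F l : Matrix D.Idx D.Idx F) * dmat D χ =
      dmat D (fun s => χ (l.foldl (fun r i => T.w i r) s)) * (nl G F l : Matrix D.Idx D.Idx F) := by
  induction l with
  | nil => simp [nl]
  | cons i l ih =>
    have e : nl G F (i :: l) = G.ni F i * nl G F l := by simp [nl]
    rw [e, Units.val_mul, mul_assoc, ih fun x hx => hl x (List.mem_cons_of_mem _ hx), ← mul_assoc,
      G.ni_dmat (hl i List.mem_cons_self), mul_assoc]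
    rfl

theorem pick_sound (G : Good D T) {K : Subgroup (GL D.Idx F)} {known : List ℕ}
    (hk : ∀ k ∈ known, Has G K k) {a b m k : ℕ} (ha : a < D.nroots) (hb : b < D.nroots)
    (hw : ∀ u : F, G.wordG (Good.cw T a b (-1 : F) u) ∈ K) (h : pick known (T.terms a b) m = some k) :
    Has G K k := by
  unfold pick at h
  split at h
  case h_2 => simp at h
  case h_1 k' C i j rest hd =>
    simp only [Option.ite_none_right_eq_some, Bool.and_eq_true, decide_eq_true_eq,
      Option.some.injEq] at h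
    obtain ⟨⟨⟨⟨rfl, hCC⟩, hpre⟩, hpost⟩, rfl⟩ := h
    have hsplit : T.terms a b = (T.terms a b).take m ++ (k', C, i, 1) :: rest := by
      rw [← hd, List.take_append_drop]
    have hmem : (k', C, i, 1) ∈ T.terms a b := by rw [hsplit]; simp
    refine ⟨(G.mem_terms ha hb hmem).1, fun v => ?_⟩
    have hkn : ∀ {L : List (ℕ × ℤ × ℕ × ℕ)}, allKnown known L = true →
        ∀ f : ℕ × ℤ × ℕ × ℕ → F, G.wordG (L.map fun c => (c.1, f c)) ∈ K := by
      intro L hL f
      refine G.wordG_mem fun p hp => ?_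
      obtain ⟨c, hc, rfl⟩ := List.mem_map.1 hp
      exact (hk c.1 (by simpa using List.all_eq_true.1 hL c hc)).2 _
    have h3 := hw ((C : F) * v)
    rw [Good.cw, hsplit, List.map_append, List.map_cons, G.wordG_append] at h3
    rw [Subgroup.mul_mem_cancel_left _ (hkn hpre _), G.wordG_cons,
      Subgroup.mul_mem_cancel_right _ (hkn hpost _)] at h3
    convert h3 using 2
    simp only [neg_neg, one_pow, mul_one, pow_one, ← mul_assoc, ← Int.cast_mul, hCC, Int.cast_one, one_mul]

theorem twist_conj (G : Good D T) {l : List ℕ} (hl : ∀ i ∈ l, i < D.rank) {α r : ℕ} (hα : α < D.nroots)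
    (hr : r < D.nroots) (h1 : wImg T l r ≠ α) (h2 : wImg T l r ≠ ng D α) (u : F) :
    ∃ t : F, G.X F α 1 * nl G F l * G.X F r t * (G.X F α 1 * nl G F l)⁻¹ =
      G.X F (wImg T l r) u * G.wordG (Good.cw T α (wImg T l r) (-1 : F) u) := by
  obtain ⟨hlt, e, he, hc⟩ := nl_conj (F := F) G hl hr
  refine ⟨e * u, ?_⟩
  have e1 : nl G F l * G.X F r (e * u) * (nl G F l)⁻¹ = G.X F (wImg T l r) u := by
    rw [hc, ← mul_assoc, ← pow_two, he, one_mul]
  rw [_root_.mul_inv_rev, G.X_inv]
  calc G.X F α 1 * nl G F l * G.X F r (e * u) * ((nl G F l)⁻¹ * G.X F α (-1))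
      = G.X F α 1 * ((nl G F l * G.X F r (e * u) * (nl G F l)⁻¹) * G.X F α (-1)) := by
        simp only [mul_assoc]
    _ = G.X F α 1 * (G.X F α (-1) * G.X F (wImg T l r) u * G.wordG (Good.cw T α (wImg T l r) (-1 : F) u)) := by
        rw [e1, G.commAt α (wImg T l r) hα hlt h1 h2 (-1) u]
    _ = _ := by rw [mul_assoc (G.X F α (-1)), ← mul_assoc, G.X_add, add_neg_cancel, G.X_zero, one_mul]

/-- The certified generators lie in `K`. -/
def GensIn (G : Good D T) (g : Gens) (K : Subgroup (GL D.Idx F)) : Prop :=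
  (∀ w ∈ g.words, (∀ i ∈ w, i < D.rank) ∧ nl G F w ∈ K) ∧
    ∀ α l, g.twisted = some (α, l) → α < D.nroots ∧ (∀ i ∈ l, i < D.rank) ∧ G.X F α 1 * nl G F l ∈ K

theorem gstep_sound (G : Good D T) {g : Gens} {K : Subgroup (GL D.Idx F)} (hg : GensIn G g K)
    {known : List ℕ} (hk : ∀ k ∈ known, Has G K k) {s : GStep} {k : ℕ}
    (h : gstep D T g known s = some k) : Has G K k := by
  have hconj : ∀ {x y : GL D.Idx F}, x ∈ K → y ∈ K → x * y * x⁻¹ ∈ K :=
    fun hx hy => mul_mem (mul_mem hx hy) (inv_mem hx)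
  cases s with
  | rot i r =>
    simp only [gstep] at h
    split at h
    case isFalse => simp at h
    case isTrue hi =>
      simp only [Option.ite_none_right_eq_some, Bool.and_eq_true, decide_eq_true_eq,
        Option.some.injEq, List.contains_iff_mem] at h
      obtain ⟨⟨hr, hm⟩, rfl⟩ := h
      obtain ⟨hwr, hn⟩ := hg.1 _ (List.getElem_mem hi)
      obtain ⟨hlt, e, he, hc⟩ := nl_conj (F := F) G hwr hr
      refine ⟨hlt, fun u => ?_⟩
      have := hconj hn ((hk r hm).2 (e * u))
      rwa [hc, ← mul_assoc, ← pow_two, he, one_mul] at this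
  | turn r =>
    simp only [gstep] at h
    split at h
    case h_2 => simp at h
    case h_1 α l hT =>
      obtain ⟨hα, hl, hb⟩ := hg.2 α l hT
      simp only [Option.ite_none_right_eq_some, Bool.and_eq_true, decide_eq_true_eq,
        Option.some.injEq, List.contains_iff_mem] at h
      obtain ⟨⟨⟨⟨⟨hr, hm⟩, h1⟩, h2⟩, hkn⟩, rfl⟩ := h
      refine ⟨(nl_conj (F := F) G hl hr).1, fun u => ?_⟩
      obtain ⟨t, ht⟩ := twist_conj (F := F) G hl hα hr h1 h2 u
      have := hconj hb ((hk r hm).2 t)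
      rw [ht] at this
      refine (Subgroup.mul_mem_cancel_right _ (G.wordG_mem fun p hp => ?_)).1 this
      obtain ⟨c, hc, rfl⟩ := List.mem_map.1 hp
      exact (hk c.1 (by simpa using List.all_eq_true.1 hkn c hc)).2 _
  | twist r m =>
    simp only [gstep] at h
    split at h
    case h_2 => simp at h
    case h_1 α l hT =>
      obtain ⟨hα, hl, hb⟩ := hg.2 α l hT
      simp only [Option.ite_none_right_eq_some, Bool.and_eq_true, decide_eq_true_eq,
        List.contains_iff_mem] at h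
      obtain ⟨⟨⟨⟨⟨hr, hm⟩, h1⟩, h2⟩, hs⟩, hp⟩ := h
      refine pick_sound G hk hα (nl_conj (F := F) G hl hr).1 (fun u => ?_) hp
      obtain ⟨t, ht⟩ := twist_conj (F := F) G hl hα hr h1 h2 u
      have := hconj hb ((hk r hm).2 t)
      rw [ht] at this
      exact (Subgroup.mul_mem_cancel_left _ ((hk _ hs).2 u)).1 this
  | comm a b m =>
    simp only [gstep, Option.ite_none_right_eq_some, Bool.and_eq_true, decide_eq_true_eq,
      List.contains_iff_mem] at h
    obtain ⟨⟨⟨⟨⟨⟨ha, hb⟩, h1⟩, h2⟩, hma⟩, hmb⟩, hp⟩ := h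
    refine pick_sound G hk ha hb (fun u => ?_) hp
    have e := G.commAt a b ha hb h1 h2 (-1 : F) u
    refine (Subgroup.mul_mem_cancel_left _ (mul_mem ((hk a hma).2 (-1)) ((hk b hmb).2 u))).1 ?_
    rw [← e]
    exact mul_mem ((hk b hmb).2 u) ((hk a hma).2 (-1))

theorem group_le_of_close (G : Good D T) {g : Gens} {K : Subgroup (GL D.Idx F)} (hg : GensIn G g K)
    {seeds : List ℕ} (hs : ∀ k ∈ seeds, Has G K k) {ss : List GStep}
    (h : chkClose D T g seeds ss = true) : D.group F ≤ K := by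
  have key : ∀ (ss : List GStep) (known res : List ℕ), (∀ k ∈ known, Has G K k) →
      grun D T g ss known = some res → ∀ k ∈ res, Has G K k := by
    intro ss
    induction ss with
    | nil => intro known res hk h; simp only [grun, Option.some.injEq] at h; exact h ▸ hk
    | cons s ss ih =>
      intro known res hk h
      simp only [grun] at h
      split at h
      case h_2 => simp at h
      case h_1 k hst =>
        refine ih (k :: known) res (fun x hx => ?_) h
        rcases List.mem_cons.1 hx with rfl | hx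
        · exact gstep_sound G hg hk hst
        · exact hk x hx
  unfold chkClose at h
  split at h
  case h_2 => simp at h
  case h_1 res hres =>
    have hall := key ss seeds res hs hres
    refine G.group_le_of_simple fun i hi t => ?_
    have := allLt_eq_true h i hi
    simp only [Bool.and_eq_true, List.contains_iff_mem] at this
    exact ⟨(hall _ this.1).2 t, (hall _ this.2).2 t⟩

theorem pr_eq (r s : ℕ) : pr D T r s = P D T r s := isum_eq _ _

theorem closure_pair (G : Good D T) {a b : GL D.Idx F} (ha : a ∈ D.group F) (hb : b ∈ D.group F)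
    (h : D.group F ≤ Subgroup.closure {a, b}) :
    ∃ a b : ↥(D.group F), Subgroup.closure ({a, b} : Set ↥(D.group F)) = ⊤ := by
  have := G
  refine ⟨⟨a, ha⟩, ⟨b, hb⟩, ?_⟩
  refine Subgroup.map_injective (D.group F).subtype_injective ?_
  rw [MonoidHom.map_closure, ← MonoidHom.range_eq_map, Subgroup.range_subtype, Set.image_pair]
  refine le_antisymm ?_ h
  rw [Subgroup.closure_le]
  rintro x (rfl | rfl)
  exacts [ha, hb]

theorem nl_mem_group (G : Good D T) {l : List ℕ} (hl : ∀ i ∈ l, i < D.rank) : nl G F l ∈ D.group F := by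
  refine list_prod_mem fun x hx => ?_
  obtain ⟨i, hi, rfl⟩ := List.mem_map.1 hx
  exact G.ni_mem_group (hl i hi)

theorem span_squares [Finite F] {S : AddSubgroup F} {c : F} (hc : c ≠ 0)
    (h : ∀ x : F, x ≠ 0 → c * x ^ 2 ∈ S) : ∀ t, t ∈ S := by
  have h' : ∀ x : F, c * x ^ 2 ∈ S := fun x => by
    by_cases hx : x = 0
    · simp [hx, S.zero_mem]
    · exact h x hx
  intro t
  by_cases h2 : (2 : F) = 0
  · have : Fintype F := Fintype.ofFinite F
    have : CharP F 2 := (CharP.charP_iff_prime_eq_zero Nat.prime_two).2 (by exact_mod_cast h2)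
    obtain ⟨x, hx⟩ := FiniteField.isSquare_of_char_two (ringChar.eq F 2) (t / c)
    have := h' x
    rwa [pow_two, ← hx, mul_div_cancel₀ _ hc] at this
  · have := S.sub_mem (h' ((t / c + 1) / 2)) (h' ((t / c - 1) / 2))
    convert this using 1
    field_simp
    ring

theorem two_gen_tor (G : Good D T) [Finite F] (hq : ∃ x : F, x ≠ 0 ∧ x ≠ 1) {l : List ℕ}
    {r0 α β γ δ j : ℕ} {ss : List GStep}
    (h : (chkTor D T l r0 α β γ δ j && chkClose D T ⟨[l], none⟩ [α, γ] ss) = true) :
    ∃ a b : ↥(D.group F), Subgroup.closure ({a, b} : Set ↥(D.group F)) = ⊤ := by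
  rw [Bool.and_eq_true] at h
  obtain ⟨hc, hclose⟩ := h
  simp only [chkTor, Bool.and_eq_true, Bool.or_eq_true, List.all_eq_true, decide_eq_true_eq, beq_iff_eq,
    pr_eq] at hc
  obtain ⟨⟨⟨⟨⟨⟨⟨⟨⟨⟨⟨hl, hr0⟩, hα⟩, hβ⟩, hγ⟩, hδ⟩, hwβ⟩, hwδ⟩, hPα⟩, hPβ⟩, hPδ⟩, hPγ⟩ := hc
  have : Fintype F := Fintype.ofFinite F
  obtain ⟨k, hk⟩ := IsCyclic.exists_generator (α := Fˣ)
  have hk0 : (k : F) ≠ 0 := k.ne_zero
  have hk1 : (k : F) ≠ 1 := by
    intro e
    obtain ⟨x, hx0, hx1⟩ := hq
    obtain ⟨m, hm⟩ := hk (Units.mk0 x hx0)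
    rw [show k = 1 from Units.ext e] at hm
    exact hx1 (by simpa using congrArg Units.val hm.symm)
  have hne : ∀ s, (P D T r0 s).natAbs = 1 → (k : F) ^ P D T r0 s ≠ 1 := fun s hs => by
    rcases Int.natAbs_eq_iff.1 hs with e | e <;> simp [e, hk1]
  set χ : ℕ → F := fun s => (k : F) ^ P D T r0 s with hχ
  have hchar : IsChar D T χ := G.isChar_P r0 hk0
  set h := G.Hg F r0 (k : F) with hh
  have hval : (h : Matrix D.Idx D.Idx F) = dmat D χ := G.Hg_eq hr0 hk0
  have hX : ∀ {r : ℕ}, r < D.nroots → ∀ t : F, h * G.X F r t * h⁻¹ = G.X F r (χ r * t) := by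
    intro r hr t
    rw [mul_inv_eq_iff_eq_mul]
    exact Units.ext (by simp only [Units.val_mul, hval, Good.X_val, G.dmat_x hchar hr])
  set z := G.X F γ (1 : F) with hz
  have hcomm : Commute h z := by
    have := hX hγ (1 : F)
    rwa [show χ γ = 1 by simp [hχ, hPγ], mul_one, mul_inv_eq_iff_eq_mul] at this
  have hpow : h ^ (Fintype.card F - 1) = 1 := by
    have : ∀ n : ℕ, ((h ^ n : GL D.Idx F) : Matrix D.Idx D.Idx F) = dmat D fun s => χ s ^ n := by
      intro n
      induction n with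
      | zero => simp [dmat_one]
      | succ n ih => rw [pow_succ, Units.val_mul, ih, hval, dmat_mul]; simp [pow_succ]
    refine Units.ext ?_
    rw [this, Units.val_one, ← dmat_one (D := D) (F := F)]
    exact dmat_congr fun s _ => FiniteField.pow_card_sub_one_eq_one _ (zpow_ne_zero _ hk0)
  have hzpow : ∀ n : ℕ, z ^ n = G.X F γ (n : F) := by
    intro n
    induction n with
    | zero => simp [G.X_zero]
    | succ n ih => rw [pow_succ, ih, hz, G.X_add]; simp
  set a := h * z with ha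
  set b := G.X F α (1 : F) * nl G F l with hb
  set K := Subgroup.closure ({a, b} : Set (GL D.Idx F)) with hK
  have haK : a ∈ K := Subgroup.subset_closure (Or.inl rfl)
  have hbK : b ∈ K := Subgroup.subset_closure (Or.inr rfl)
  have hzK : z ∈ K := by
    have := pow_mem haK (Fintype.card F - 1)
    rw [ha, hcomm.mul_pow, hpow, one_mul, hzpow, Nat.cast_sub Fintype.card_pos, FiniteField.cast_card_eq_zero,
      zero_sub, Nat.cast_one, ← G.X_inv] at this
    exact inv_mem_iff.1 this
  have hhK : h ∈ K := by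
    have := mul_mem haK (inv_mem hzK)
    rwa [ha, mul_inv_cancel_right] at this
  have hspan : ∀ {r : ℕ}, r < D.nroots → ((P D T r0 r).natAbs = 1 ∨ (P D T r0 r).natAbs = 2) →
      ∀ {c : F}, c ≠ 0 → G.X F r c ∈ K → Has G K r := by
    intro r hr hP c hc hmem
    let S : AddSubgroup F :=
      { carrier := {t | G.X F r t ∈ K}
        zero_mem' := by simp only [Set.mem_ofPred_eq, G.X_zero]; exact one_mem K
        add_mem' := fun {x y} hx hy => by
          simp only [Set.mem_ofPred_eq] at hx hy ⊢; rw [← G.X_add]; exact mul_mem hx hy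
        neg_mem' := fun {x} hx => by
          simp only [Set.mem_ofPred_eq] at hx ⊢; rw [← G.X_inv]; exact inv_mem hx }
    have hz' : ∀ n : ℤ, c * χ r ^ n ∈ S := by
      intro n
      induction n using Int.induction_on with
      | zero => simpa [S] using hmem
      | succ n ih =>
        have h1 : h * G.X F r (c * χ r ^ (n : ℤ)) * h⁻¹ ∈ K := mul_mem (mul_mem hhK ih) (inv_mem hhK)
        rw [hX hr] at h1
        show G.X F r _ ∈ K
        convert h1 using 2
        rw [zpow_add_one₀ (hchar.ne_zero hr)]; ring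
      | pred n ih =>
        have h1 : h⁻¹ * G.X F r (c * χ r ^ (-(n : ℤ))) * h ∈ K := mul_mem (mul_mem (inv_mem hhK) ih) hhK
        have e : c * χ r ^ (-(n : ℤ)) = χ r * (c * χ r ^ (-(n : ℤ) - 1)) := by
          rw [zpow_sub_one₀ (hchar.ne_zero hr)]; field_simp [hchar.ne_zero hr]
        rw [e, ← hX hr] at h1
        show G.X F r _ ∈ K
        simpa [mul_assoc] using h1
    refine ⟨hr, span_squares (S := S) hc fun x hx => ?_⟩
    obtain ⟨m, hm⟩ := hk (Units.mk0 x hx)
    have hxm : (k : F) ^ m = x := by simpa using congrArg Units.val hm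
    obtain ⟨n, hn⟩ : ∃ n, P D T r0 r * n = 2 * m := by
      rcases hP with h | h <;> rcases Int.natAbs_eq_iff.1 h with e | e
      · exact ⟨2 * m, by rw [e]; push_cast; ring⟩
      · exact ⟨-2 * m, by rw [e]; push_cast; ring⟩
      · exact ⟨m, by rw [e]; push_cast; ring⟩
      · exact ⟨-m, by rw [e]; push_cast; ring⟩
    have := hz' n
    rw [hχ] at this
    simp only [← zpow_mul, hn] at this
    rwa [mul_comm 2 m, zpow_mul, hxm, zpow_two, ← pow_two] at this
  -- the first seed
  set h' := nl G F l * h * (nl G F l)⁻¹ with hh'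
  set χ' : ℕ → F := fun s => χ (l.foldl (fun r i => T.w i r) s) with hχ'
  have hval' : (h' : Matrix D.Idx D.Idx F) = dmat D χ' := by
    rw [hh', Units.val_mul, Units.val_mul, hval, nl_dmat G hl, mul_assoc, ← Units.val_mul,
      mul_inv_cancel, Units.val_one, mul_one]
  have hχ'α : χ' α = χ β := by simp only [hχ', ← hwβ, foldl_wImg G hl hβ]
  set d := 1 - χ β with hd
  have hy : b * h * b⁻¹ = G.X F α d * h' := by
    have e1 : h' * G.X F α (-1 : F) = G.X F α (χ' α * -1) * h' := by
      have hstep : (nl G F l)⁻¹ * G.X F α (-1 : F) * nl G F l ∈ (⊤ : Subgroup (GL D.Idx F)) := trivial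
      obtain ⟨hlt, e, he, hc⟩ := nl_conj (F := F) G hl hβ
      rw [hwβ] at hc
      have e2 : G.X F α (-1 : F) = nl G F l * G.X F β (e * -1) * (nl G F l)⁻¹ := by
        rw [hc, ← mul_assoc, ← pow_two, he, one_mul]
      calc h' * G.X F α (-1 : F) = nl G F l * (h * G.X F β (e * -1) * h⁻¹) * (nl G F l)⁻¹ * h' := by
            rw [hh', e2]; group
        _ = G.X F α (χ' α * -1) * h' := by
            rw [hX hβ, hc, hχ'α, ← mul_assoc e, mul_comm e (χ β), mul_assoc, ← mul_assoc e e, ← pow_two e,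
              he, one_mul]
    calc b * h * b⁻¹ = G.X F α (1 : F) * (h' * G.X F α (-1 : F)) := by
          rw [hb, hh', ← G.X_inv]; group
      _ = G.X F α d * h' := by rw [e1, ← mul_assoc, G.X_add, hχ'α, hd, mul_neg_one, ← sub_eq_add_neg]
  have hcom2 : h * h' = h' * h := by
    refine Units.ext ?_
    simp only [Units.val_mul, hval, hval', dmat_mul]
    exact dmat_congr fun s _ => mul_comm _ _
  have hα1 : G.X F α (d * (χ α - 1)) ∈ K := by
    have hyK : b * h * b⁻¹ ∈ K := mul_mem (mul_mem hbK hhK) (inv_mem hbK)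
    have h1 := mul_mem (mul_mem (mul_mem hhK hyK) (inv_mem hhK)) (inv_mem hyK)
    rw [hy] at h1
    have e : h * (G.X F α d * h') * h⁻¹ * (G.X F α d * h')⁻¹ =
        (h * G.X F α d * h⁻¹) * (G.X F α d)⁻¹ := by
      calc h * (G.X F α d * h') * h⁻¹ * (G.X F α d * h')⁻¹
          = h * G.X F α d * (h' * h⁻¹ * h'⁻¹) * (G.X F α d)⁻¹ := by group
        _ = _ := by
          rw [show h' * h⁻¹ * h'⁻¹ = h⁻¹ from by
            rw [mul_inv_eq_iff_eq_mul, eq_inv_mul_iff_mul_eq, ← mul_assoc, hcom2, mul_inv_cancel_right]]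
    rw [e, hX hα, G.X_inv, G.X_add] at h1
    convert h1 using 2
    ring
  have hasα : Has G K α := by
    refine hspan hα (Or.inl hPα) ?_ hα1
    exact mul_ne_zero (sub_ne_zero.2 (hne β hPβ).symm) (sub_ne_zero.2 (hne α hPα))
  have hnK : nl G F l ∈ K := by
    have := mul_mem (inv_mem (hasα.2 1)) hbK
    rwa [hb, inv_mul_cancel_left] at this
  -- the second seed
  obtain ⟨-, e, he, hcj⟩ := nl_pow_conj (F := F) G hl hδ j
  rw [hwδ] at hcj
  have hδ1 : G.X F δ e ∈ K := by
    have h1 : (nl G F l ^ j)⁻¹ * z * nl G F l ^ j ∈ K :=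
      mul_mem (mul_mem (inv_mem (pow_mem hnK j)) hzK) (pow_mem hnK j)
    rw [hz, show (1 : F) = e * e by rw [← pow_two, he], ← hcj] at h1
    simpa [mul_assoc] using h1
  have hasδ : Has G K δ := hspan hδ hPδ (fun e0 => by simp [e0] at he) hδ1
  have hasγ : Has G K γ := by
    refine ⟨hγ, fun t => ?_⟩
    have h1 : nl G F l ^ j * G.X F δ (e * t) * (nl G F l ^ j)⁻¹ ∈ K :=
      mul_mem (mul_mem (pow_mem hnK j) (hasδ.2 _)) (inv_mem (pow_mem hnK j))
    rwa [hcj, ← mul_assoc, ← pow_two, he, one_mul] at h1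
  refine closure_pair G (a := a) (b := b) ?_ ?_ (group_le_of_close G (g := ⟨[l], none⟩) ⟨?_, ?_⟩ (seeds := [α, γ]) ?_ hclose)
  · exact mul_mem (by
      simp only [hh, Good.Hg, Good.Ng]
      exact mul_mem
        (mul_mem (mul_mem (G.X_mem_group hr0 _) (G.X_mem_group (G.ng_lt hr0) _)) (G.X_mem_group hr0 _))
        (mul_mem (mul_mem (G.X_mem_group hr0 _) (G.X_mem_group (G.ng_lt hr0) _)) (G.X_mem_group hr0 _)))
      (G.X_mem_group hγ _)
  · exact mul_mem (G.X_mem_group hα _) (nl_mem_group G hl)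
  · intro w hw
    rw [List.mem_singleton] at hw
    subst hw
    exact ⟨hl, hnK⟩
  · intro α' l' h'; simp at h'
  · intro x hx
    simp only [List.mem_cons, List.not_mem_nil, or_false] at hx
    rcases hx with rfl | rfl
    exacts [hasα, hasγ]

theorem two_gen_tw (G : Good D T) (hq : ∀ t : F, t = 0 ∨ t = 1) {l : List ℕ} {α γ : ℕ} {ss : List GStep}
    (h : (chkTw D l α γ && chkClose D T ⟨[], some (α, l)⟩ [γ] ss) = true) :
    ∃ a b : ↥(D.group F), Subgroup.closure ({a, b} : Set ↥(D.group F)) = ⊤ := by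
  rw [Bool.and_eq_true] at h
  obtain ⟨hc, hclose⟩ := h
  simp only [chkTw, Bool.and_eq_true, List.all_eq_true, decide_eq_true_eq] at hc
  obtain ⟨⟨hl, hα⟩, hγ⟩ := hc
  refine closure_pair G (a := G.X F γ 1) (b := G.X F α 1 * nl G F l) (G.X_mem_group hγ _)
    (mul_mem (G.X_mem_group hα _) (nl_mem_group G hl))
    (group_le_of_close G (g := ⟨[], some (α, l)⟩) ⟨fun w hw => absurd hw List.not_mem_nil, ?_⟩ (seeds := [γ]) ?_ hclose)
  · intro α' l' h'
    obtain ⟨rfl, rfl⟩ := Prod.mk.injEq _ _ _ _ ▸ Option.some.inj h'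
    exact ⟨hα, hl, Subgroup.subset_closure (Or.inr rfl)⟩
  · intro x hx
    rw [List.mem_singleton] at hx
    subst hx
    refine ⟨hγ, fun t => ?_⟩
    rcases hq t with rfl | rfl
    · rw [G.X_zero]; exact one_mem _
    · exact Subgroup.subset_closure (Or.inl rfl)

end Cfsg.Agent.KnownA.TwoGen
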